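import Mathlib.RingTheory.Filtration
import Mathlib.RingTheory.LocalRing.ResidueField.Basic
import Mathlib.GroupTheory.OrderOfElement
import Mathlib.Algebra.Ring.Action.Basic
import Mathlib.Algebra.BigOperators.Ring.Finset

/-!
# Automorphisms of invertible order fixing the cotangent space
-/

set_option autoImplicit false

open IsLocalRing

namespace Groth.Agent.TameFix

variable {A G : Type*} [CommRing A] [IsLocalRing A] [Group G] [MulSemiringAction G A]

theorem smul_mem_maximalIdeal (g : G) {x : A} (hx : x ∈ maximalIdeal A) : g • x ∈ maximalIdeal A := by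
  intro hu
  refine hx ?_
  have := hu.map (MulSemiringAction.toRingHom G A g⁻¹)
  simpa using this

theorem smul_sub_mem_pow (g : G) (h0 : ∀ a : A, g • a - a ∈ maximalIdeal A)
    (h1 : ∀ a ∈ maximalIdeal A, g • a - a ∈ maximalIdeal A ^ 2) :
    ∀ (j : ℕ) (x : A), x ∈ maximalIdeal A ^ j → g • x - x ∈ maximalIdeal A ^ (j + 1) := by
  intro j
  induction j with
  | zero => intro x _; simpa using h0 x
  | succ j ih =>
    intro x hx
    rw [pow_succ] at hx
    refine Submodule.mul_induction_on hx (fun a ha b hb => ?_) (fun a b ha hb => ?_)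
    · rw [smul_mul', show g • a * g • b - a * b = (g • a - a) * g • b + a * (g • b - b) by ring]
      refine add_mem ?_ ?_
      · rw [pow_succ]
        exact Ideal.mul_mem_mul (ih a ha) (smul_mem_maximalIdeal g hb)
      · rw [show j + 1 + 1 = j + 2 by omega, pow_add]
        exact Ideal.mul_mem_mul ha (h1 b hb)
    · rw [smul_add, add_sub_add_comm]
      exact add_mem ha hb

theorem smul_eq_self [IsNoetherianRing A] (g : G) (h0 : ∀ a : A, g • a - a ∈ maximalIdeal A)
    (h1 : ∀ a ∈ maximalIdeal A, g • a - a ∈ maximalIdeal A ^ 2)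
    (hN : IsUnit ((orderOf g : ℕ) : A)) (a : A) : g • a = a := by
  have key : ∀ j, g • a - a ∈ maximalIdeal A ^ (j + 1) := by
    intro j
    induction j with
    | zero => simpa using h0 a
    | succ j ih =>
      set δ := g • a - a with hδ
      have hpow : ∀ i, g ^ i • δ - δ ∈ maximalIdeal A ^ (j + 2) ∧ g ^ i • δ ∈ maximalIdeal A ^ (j + 1) := by
        intro i
        induction i with
        | zero => simpa using ih
        | succ i ihi =>
          rw [show g ^ (i + 1) • δ = g • g ^ i • δ by rw [← mul_smul, ← pow_succ']]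
          have h := smul_sub_mem_pow g h0 h1 (j + 1) _ ihi.2
          refine ⟨?_, ?_⟩
          · rw [show g • g ^ i • δ - δ = (g • g ^ i • δ - g ^ i • δ) + (g ^ i • δ - δ) by ring]
            exact add_mem h ihi.1
          · rw [show g • g ^ i • δ = (g • g ^ i • δ - g ^ i • δ) + g ^ i • δ by ring]
            exact add_mem (Ideal.pow_le_pow_right (by omega) h) ihi.2
      have hsum : ∑ i ∈ Finset.range (orderOf g), g ^ i • δ = 0 := by
        simp only [hδ, smul_sub, ← mul_smul, ← pow_succ]
        rw [Finset.sum_range_sub (fun i => g ^ i • a), pow_orderOf_eq_one]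
        simp
      have hmem : ∑ i ∈ Finset.range (orderOf g), (g ^ i • δ - δ) ∈ maximalIdeal A ^ (j + 2) :=
        sum_mem fun i _ => (hpow i).1
      rw [Finset.sum_sub_distrib, hsum, Finset.sum_const, Finset.card_range, zero_sub, neg_mem_iff,
        nsmul_eq_mul] at hmem
      exact (Ideal.unit_mul_mem_iff_mem _ hN).1 hmem
  have h : g • a - a ∈ ⨅ j : ℕ, maximalIdeal A ^ j := by
    rw [Submodule.mem_iInf]
    intro j
    exact Ideal.pow_le_pow_right (by omega) (key j)
  rw [Ideal.iInf_pow_eq_bot_of_isLocalRing _ (maximalIdeal.isMaximal A).ne_top, Submodule.mem_bot,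
    sub_eq_zero] at h
  exact h

end Groth.Agent.TameFix
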